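/-
Quasi-flat morphisms: generizations lift.
-/
import Groth.Prelude.Def_FDesc
import Groth.Agent.Lib.AssPts.Points
import Groth.Agent.Lib.QCoh.FT
import Mathlib.RingTheory.Flat.FaithfullyFlat.Algebra
import Mathlib.RingTheory.Spectrum.Prime.RingHom

universe u

open CategoryTheory AlgebraicGeometry TopologicalSpace
open scoped TensorProduct

namespace GrothLib.QuasiFlat

/-- A nonzero finite module over a local ring, flat over a local ring below, makes spectra surject. -/
theorem comap_surjective_of_flat_module {A B : Type u} [CommRing A] [CommRing B] [IsLocalRing A]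
    [IsLocalRing B] [Algebra A B] [IsLocalHom (algebraMap A B)] (M : Type u) [AddCommGroup M]
    [Module B M] [Module A M] [IsScalarTower A B M] [Module.Finite B M] [Nontrivial M]
    [Module.Flat A M] : Function.Surjective (PrimeSpectrum.comap (algebraMap A B)) := by
  haveI : Module.FaithfullyFlat A M := by
    refine ⟨fun m hm => ?_⟩
    rw [IsLocalRing.eq_maximalIdeal hm]
    intro h
    have h2 : (IsLocalRing.maximalIdeal A).map (algebraMap A B) • (⊤ : Submodule B M) = ⊤ := by
      rw [eq_top_iff]
      intro z _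
      have hz : z ∈ IsLocalRing.maximalIdeal A • (⊤ : Submodule A M) := by rw [h]; trivial
      refine Submodule.smul_induction_on hz (fun a ha w _ => ?_) fun u v hu hv => add_mem hu hv
      rw [← algebraMap_smul B a w]
      exact Submodule.smul_mem_smul (Ideal.mem_map_of_mem _ ha) trivial
    have hle : (⊤ : Submodule B M) ≤ IsLocalRing.maximalIdeal B • ⊤ := by
      conv_lhs => rw [← h2]
      exact Submodule.smul_mono_left (((IsLocalRing.local_hom_TFAE (algebraMap A B)).out 0 2).mp ‹_›)
    exact top_ne_bot (Submodule.eq_bot_of_le_smul_of_le_jacobson_bot _ _ Module.Finite.fg_top hle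
      (IsLocalRing.maximalIdeal_le_jacobson _))
  intro p
  have hnt : Nontrivial (M ⊗[A] p.asIdeal.ResidueField) :=
    Module.FaithfullyFlat.lTensor_nontrivial A M p.asIdeal.ResidueField
  obtain ⟨m, hm⟩ := exists_ne (0 : M ⊗[A] p.asIdeal.ResidueField)
  let I : Ideal B := LinearMap.ker (LinearMap.toSpanSingleton B (M ⊗[A] p.asIdeal.ResidueField) m)
  have hI : ∀ b : B, b ∈ I ↔ b • m = 0 := fun b => LinearMap.mem_ker
  have hp : ∀ a ∈ p.asIdeal, ∀ z : M ⊗[A] p.asIdeal.ResidueField, a • z = 0 := by
    intro a ha z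
    induction z using TensorProduct.induction_on with
    | zero => rw [smul_zero]
    | add x y hx hy => rw [smul_add, hx, hy, add_zero]
    | tmul x y =>
      rw [TensorProduct.smul_tmul', TensorProduct.smul_tmul, Algebra.smul_def,
        (Ideal.algebraMap_residueField_eq_zero).2 ha, zero_mul, TensorProduct.tmul_zero]
  have hdis : Disjoint (I : Set B) ((p.asIdeal.primeCompl.map (algebraMap A B : A →* B) : Submonoid B) : Set B) := by
    rw [Set.disjoint_left]
    rintro b hb ⟨a, ha, rfl⟩
    have hu : IsUnit (algebraMap A p.asIdeal.ResidueField a) :=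
      IsUnit.mk0 _ (fun h => ha (Ideal.algebraMap_residueField_eq_zero.1 h))
    have h0 : a • m = 0 := by
      rw [← algebraMap_smul B a m]; exact (hI _).1 hb
    have hinv : ∀ z : M ⊗[A] p.asIdeal.ResidueField,
        TensorProduct.map LinearMap.id (LinearMap.mulLeft A (↑hu.unit⁻¹ : p.asIdeal.ResidueField))
          (a • z) = z := by
      intro z
      induction z using TensorProduct.induction_on with
      | zero => simp
      | add x y hx hy => rw [smul_add, map_add, hx, hy]
      | tmul x y =>
        rw [← TensorProduct.tmul_smul, TensorProduct.map_tmul, LinearMap.id_apply,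
          LinearMap.mulLeft_apply, Algebra.smul_def, ← mul_assoc, IsUnit.val_inv_mul, one_mul]
    exact hm (by rw [← hinv m, h0, map_zero])
  obtain ⟨q, hq, hIq, hqd⟩ := Ideal.exists_le_prime_disjoint I _ hdis
  refine ⟨⟨q, hq⟩, PrimeSpectrum.ext (le_antisymm (fun a ha => ?_) fun a ha => ?_)⟩
  · by_contra hap
    exact Set.disjoint_left.1 hqd ha ⟨a, hap, rfl⟩
  · exact hIq ((hI _).2 (by rw [algebraMap_smul]; exact hp a ha m))

/-- Stalks of quasi-coherent modules of finite type are finite. -/
theorem finite_stalk {X : Scheme.{u}} (F : X.Modules) (hF : Coh.IsCoh F) (x : X) :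
    Module.Finite (X.presheaf.stalk x) (F.presheaf.stalk x) := by
  have : F.IsQuasicoherent := hF.1
  obtain ⟨_, ⟨V, hV, rfl⟩, hxV, -⟩ :=
    X.isBasis_affineOpens.exists_subset_of_mem_open (Set.mem_univ x) isOpen_univ
  have hV : IsAffineOpen V := hV
  have := GrothLib.QCoh.moduleFinite_of_isFiniteType F hF.2 hV
  classical
  obtain ⟨G, hG⟩ := Module.Finite.fg_top (R := Γ(X, V)) (M := Γ(F, V))
  let R := X.presheaf.stalk x
  have hspan : Submodule.span R ((F.presheaf.germ V x hxV).hom '' (G : Set Γ(F, V))) = ⊤ := by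
    rw [eq_top_iff]
    intro m _
    obtain ⟨c, z, hc, hz⟩ := GrothLib.WeakAss.exists_smul_eq_germ hV hxV m
    have hu : IsUnit (X.presheaf.germ V x hxV c) :=
      (Scheme.mem_basicOpen _ c x hxV).mp (GrothLib.WeakAss.notMem_primeAt_iff.mp hc)
    rw [← Submodule.smul_mem_iff_of_isUnit _ hu, hz]
    have hzG : z ∈ Submodule.span Γ(X, V) (G : Set Γ(F, V)) := hG ▸ trivial
    clear hz
    induction hzG using Submodule.span_induction with
    | mem g hg => exact Submodule.subset_span ⟨g, hg, rfl⟩
    | zero => rw [map_zero]; exact zero_mem _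
    | add u v _ _ hu' hv' => rw [map_add]; exact add_mem hu' hv'
    | smul r u _ hu' => rw [GrothLib.WeakAss.germ_smul]; exact Submodule.smul_mem _ _ hu'
  exact ⟨⟨G.image (F.presheaf.germ V x hxV).hom, by rw [Finset.coe_image]; exact hspan⟩⟩

theorem comap_stalkMap_surjective {X Y : Scheme.{u}} (f : X ⟶ Y) (M : X.Modules) (hM : Coh.IsCoh M)
    (x : X) (hflat : FlatMod.IsFlatOverAt f M x) [Nontrivial (M.presheaf.stalk x)] :
    Function.Surjective (PrimeSpectrum.comap (f.stalkMap x).hom) := by
  let _ := (f.stalkMap x).hom.toAlgebra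
  let _ := FlatMod.moduleStalkOver f M x
  have : IsScalarTower (Y.presheaf.stalk (f x)) (X.presheaf.stalk x) (M.presheaf.stalk x) :=
    IsScalarTower.of_algebraMap_smul fun _ _ => rfl
  have : IsLocalHom (algebraMap (Y.presheaf.stalk (f x)) (X.presheaf.stalk x)) :=
    inferInstanceAs (IsLocalHom (f.stalkMap x).hom)
  have : Module.Flat (Y.presheaf.stalk (f x)) (M.presheaf.stalk x) := hflat
  have := finite_stalk M hM x
  exact comap_surjective_of_flat_module (M.presheaf.stalk x)

/-- Generizations lift along quasi-flat morphisms. -/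
theorem generalizingMap {X Y : Scheme.{u}} (f : X ⟶ Y) (hf : FDesc.IsQuasiFlat f) :
    GeneralizingMap f.base := by
  obtain ⟨M, hM, hflat, hsupp⟩ := hf
  intro x y hy
  have hy' : y ∈ Set.range (Y.fromSpecStalk (f x)) := by
    rw [Scheme.range_fromSpecStalk]; exact hy
  obtain ⟨p, rfl⟩ := hy'
  haveI := hsupp x
  obtain ⟨q, hq⟩ := comap_stalkMap_surjective f M hM x (hflat x) p
  refine ⟨X.fromSpecStalk x q, ?_, ?_⟩
  · have : X.fromSpecStalk x q ∈ Set.range (X.fromSpecStalk x) := ⟨q, rfl⟩
    rw [Scheme.range_fromSpecStalk] at this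
    exact this
  · rw [← hq]
    exact (congrArg (fun φ => φ q) (Scheme.SpecMap_stalkMap_fromSpecStalk (f := f) (x := x))).symm

end GrothLib.QuasiFlat
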