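/-
Topological consequences of lifting generizations.
-/
import Groth.Agent.Lib.QuasiFlat.Basic
import Groth.Agent.Lib.LocNoeth.Scheme

universe u

open CategoryTheory CategoryTheory.Limits AlgebraicGeometry TopologicalSpace

namespace GrothLib.QuasiFlat

variable {X Y Y' : Scheme.{u}}

theorem preimage_closure_range (f : X ⟶ Y) (hf : GeneralizingMap f.base) (g : Y' ⟶ Y)
    [QuasiCompact g] : f.base ⁻¹' closure (Set.range g.base) = closure (f.base ⁻¹' Set.range g.base) := by
  refine subset_antisymm (fun x hx => ?_) (f.continuous.closure_preimage_subset _)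
  obtain ⟨z, hz⟩ := GrothLib.LocNoeth.exists_specializes_of_mem_closure_range g hx
  obtain ⟨x', hx', he⟩ := hf hz
  exact hx'.mem_closed isClosed_closure (subset_closure ⟨z, he.symm⟩)

theorem isDominant_snd (f : X ⟶ Y) (g : Y' ⟶ Y) [QuasiCompact f] [IsDominant f]
    (hg : GeneralizingMap g.base) : IsDominant (pullback.snd f g) := by
  refine ⟨?_⟩
  show DenseRange (pullback.snd f g)
  rw [denseRange_iff_closure_range]
  have h := preimage_closure_range g hg f
  rw [(Scheme.Hom.denseRange f).closure_range, Set.preimage_univ] at h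
  rw [Scheme.Pullback.range_snd]
  exact h.symm

theorem isClosed_image_of_saturated (f : X ⟶ Y) [QuasiCompact f] (hf : GeneralizingMap f.base)
    (F : Set X) (hF : IsClosed F) (hsat : f ⁻¹' (f '' F) = F) :
    f ⁻¹' closure (f '' F) = F := by
  refine subset_antisymm (fun x hx => ?_) fun x hx => subset_closure ⟨x, hx, rfl⟩
  let I : X.IdealSheafData := Scheme.IdealSheafData.vanishingIdeal ⟨F, hF⟩
  have hr : Set.range (I.subschemeι ≫ f) = f '' F := by
    rw [Scheme.Hom.comp_base, TopCat.coe_comp, Set.range_comp]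
    congr 1
    exact (Scheme.IdealSheafData.range_subschemeι I).trans
      (Scheme.IdealSheafData.coe_support_vanishingIdeal _)
  rw [← hr] at hx
  obtain ⟨z, hz⟩ := GrothLib.LocNoeth.exists_specializes_of_mem_closure_range (I.subschemeι ≫ f) hx
  obtain ⟨x', hx', he⟩ := hf hz
  refine hx'.mem_closed hF ?_
  rw [← hsat]
  exact hr ▸ (⟨z, he.symm⟩ : f x' ∈ Set.range (I.subschemeι ≫ f))

theorem isQuotientMap (f : X ⟶ Y) [QuasiCompact f] [Surjective f] (hf : GeneralizingMap f.base) :
    Topology.IsQuotientMap f.base := by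
  refine Topology.isQuotientMap_iff_isClosed.2 ⟨f.surjective, fun s => ⟨fun h => h.preimage f.continuous, fun h => ?_⟩⟩
  have hs : f '' (f ⁻¹' s) = s := Set.image_preimage_eq s f.surjective
  have h2 := isClosed_image_of_saturated f hf (f ⁻¹' s) h (by rw [hs])
  rw [hs] at h2
  rw [← closure_subset_iff_isClosed]
  intro y hy
  obtain ⟨x, rfl⟩ := f.surjective y
  exact (h2 ▸ (hy : x ∈ f ⁻¹' closure s) : x ∈ f ⁻¹' s)

end GrothLib.QuasiFlat
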