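/-
Quasi-compact embeddings descend along fpqc morphisms.
-/
import Groth.Agent.Lib.QuasiFlat.Top
import Groth.Agent.S0079
import Mathlib.AlgebraicGeometry.Morphisms.UniversallyOpen

universe u

open CategoryTheory CategoryTheory.Limits AlgebraicGeometry TopologicalSpace MorphismProperty

namespace GrothLib.QuasiFlat

/-- The underlying map of a quasi-compact morphism descends embeddings along surjective generizing maps. -/
theorem isEmbedding_of_isPullback {A X Y Z : Scheme.{u}} {fst : A ⟶ X} {snd : A ⟶ Y} {g : X ⟶ Z}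
    {f : Y ⟶ Z} (h : IsPullback fst snd g f) [Surjective g] (hg : GeneralizingMap g.base)
    [QuasiCompact f] (hfst : Topology.IsEmbedding fst.base) : Topology.IsEmbedding f.base := by
  have hinj : Function.Injective f.base := by
    intro y₁ y₂ he
    obtain ⟨x, hx⟩ := g.surjective (f y₁)
    obtain ⟨a₁, ha₁, hb₁⟩ := Scheme.exists_preimage_of_isPullback h x y₁ hx
    obtain ⟨a₂, ha₂, hb₂⟩ := Scheme.exists_preimage_of_isPullback h x y₂ (hx.trans he)
    rw [← hb₁, ← hb₂, hfst.injective (ha₁.trans ha₂.symm)]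
  refine ⟨⟨le_antisymm f.continuous.le_induced (fun U hU => ?_)⟩, hinj⟩
  let W : Set Z := (closure (f.base '' Uᶜ))ᶜ
  refine ⟨W, isClosed_closure.isOpen_compl, ?_⟩
  have key : f.base ⁻¹' closure (f.base '' Uᶜ) = Uᶜ := by
    refine subset_antisymm (fun y hy => ?_) fun y hy => subset_closure ⟨y, hy, rfl⟩
    let I : Y.IdealSheafData := Scheme.IdealSheafData.vanishingIdeal ⟨Uᶜ, hU.isClosed_compl⟩
    have hr : Set.range (I.subschemeι ≫ f) = f.base '' Uᶜ := by
      rw [Scheme.Hom.comp_base, TopCat.coe_comp, Set.range_comp]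
      congr 1
      exact (Scheme.IdealSheafData.range_subschemeι I).trans
        (Scheme.IdealSheafData.coe_support_vanishingIdeal _)
    rw [← hr] at hy
    obtain ⟨w, hw⟩ := GrothLib.LocNoeth.exists_specializes_of_mem_closure_range (I.subschemeι ≫ f) hy
    obtain ⟨z, hzU, hz⟩ : (I.subschemeι ≫ f) w ∈ f.base '' Uᶜ := hr ▸ ⟨w, rfl⟩
    rw [← hz] at hw
    obtain ⟨x, hx⟩ := g.surjective (f y)
    obtain ⟨a, ha₁, ha₂⟩ := Scheme.exists_preimage_of_isPullback h x y hx
    have hw' : f z ⤳ g x := hx.symm ▸ hw
    obtain ⟨x', hx', he⟩ := hg hw'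
    obtain ⟨a', ha'₁, ha'₂⟩ := Scheme.exists_preimage_of_isPullback h x' z he
    have hsp : a' ⤳ a := hfst.isInducing.specializes_iff.1 (by rw [ha₁, ha'₁]; exact hx')
    have hzy : z ⤳ y := by
      have := hsp.map snd.continuous
      rwa [ha₂, ha'₂] at this
    exact hzy.mem_closed hU.isClosed_compl hzU
  rw [Set.preimage_compl, key, compl_compl]

theorem descendsAlong_embedding :
    MorphismProperty.DescendsAlong
      (topologically (fun f => Topology.IsEmbedding f) ⊓ @QuasiCompact : MorphismProperty Scheme.{u})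
      (@Surjective ⊓ @Flat ⊓ @QuasiCompact : MorphismProperty Scheme.{u}) := by
  refine ⟨fun {A X Y Z fst snd g f} h hg hfst => ?_⟩
  haveI : QuasiCompact f := Groth.Agent.S0079.result.of_isPullback h hg hfst.2
  haveI := hg.1.1
  haveI := hg.1.2
  exact ⟨isEmbedding_of_isPullback h (Flat.generalizingMap g) hfst.1, inferInstance⟩

theorem descendsAlong_universally_embedding :
    MorphismProperty.DescendsAlong
      (MorphismProperty.universally (topologically (fun f => Topology.IsEmbedding f)) ⊓ @QuasiCompact : MorphismProperty Scheme.{u})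
      (@Surjective ⊓ @Flat ⊓ @QuasiCompact : MorphismProperty Scheme.{u}) := by
  refine ⟨fun {A X Y Z fst snd g f} h hg hfst => ?_⟩
  haveI hqc : QuasiCompact f := Groth.Agent.S0079.result.of_isPullback h hg hfst.2
  refine ⟨fun Y' Z' i₁ i₂ f' h' => ?_, hqc⟩
  haveI : QuasiCompact f' := MorphismProperty.of_isPullback h'.flip hqc
  haveI := hg.1.1
  haveI := hg.1.2
  let P := pullback (pullback.snd g i₂) f'
  let m : P ⟶ A := h.lift (pullback.fst _ f' ≫ pullback.fst g i₂) (pullback.snd _ f' ≫ i₁) (by
    rw [Category.assoc, Category.assoc, pullback.condition (f := g), ← h'.w, pullback.condition_assoc])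
  have hsq : IsPullback m (pullback.fst (pullback.snd g i₂) f') fst (pullback.fst g i₂) := by
    have a : IsPullback (pullback.snd (pullback.snd g i₂) f' ≫ i₁) (pullback.fst (pullback.snd g i₂) f')
        f (pullback.snd g i₂ ≫ i₂) :=
      (IsPullback.of_hasPullback (pullback.snd g i₂) f').flip.paste_horiz h'.flip
    have b : IsPullback (m ≫ snd) (pullback.fst (pullback.snd g i₂) f') f (pullback.fst g i₂ ≫ g) := by
      rw [h.lift_snd, pullback.condition]; exact a
    exact IsPullback.of_right b (h.lift_fst _ _ _) h.flip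
  exact isEmbedding_of_isPullback (IsPullback.of_hasPullback (pullback.snd g i₂) f')
    (Flat.generalizingMap _) (hfst.1 _ _ _ hsq.flip)

end GrothLib.QuasiFlat
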