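/-
Closures of pro-constructible sets and generizing morphisms.
-/
import Groth.Agent.Lib.QuasiFlat.Top
import Groth.Agent.Lib.Constr.Images
import Groth.Agent.Lib.Constr.Scheme

universe u

open CategoryTheory AlgebraicGeometry TopologicalSpace Set

namespace GrothLib.QuasiFlat

variable {X Y : Scheme.{u}}

theorem exists_specializes_of_mem_closure {Z : Set Y} (hZ : ProCons.IsProConstructible Z) {y : Y}
    (hy : y ∈ closure Z) : ∃ z ∈ Z, z ⤳ y := by
  obtain ⟨_, ⟨V, hV, rfl⟩, hyV, -⟩ :=
    Y.isBasis_affineOpens.exists_subset_of_mem_open (Set.mem_univ y) isOpen_univ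
  let V : Y.Opens := V
  have hV : IsAffineOpen V := hV
  haveI : IsAffine (V : Scheme.{u}) := hV
  haveI : CompactSpace (V : Scheme.{u}) := inferInstance
  obtain ⟨W, g, hW, hg⟩ := GrothLib.Constr.exists_isAffine_range_eq_of_isProConstructible
    (GrothLib.Constr.isProConstructible_preimage V.ι hZ)
  haveI := hW
  haveI : QuasiCompact g := inferInstance
  have hy' : (⟨y, hyV⟩ : (V : Scheme.{u})) ∈ closure (Set.range g.base) := by
    rw [hg]
    exact V.ι.isOpenEmbedding.isOpenMap.preimage_closure_subset_closure_preimage hy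
  obtain ⟨w, hw⟩ := GrothLib.LocNoeth.exists_specializes_of_mem_closure_range g hy'
  have hmem : g w ∈ V.ι.base ⁻¹' Z := hg ▸ ⟨w, rfl⟩
  exact ⟨V.ι (g w), hmem, hw.map V.ι.continuous⟩

theorem preimage_closure (f : X ⟶ Y) (hf : GeneralizingMap f.base) {Z : Set Y}
    (hZ : ProCons.IsProConstructible Z) : f.base ⁻¹' closure Z = closure (f.base ⁻¹' Z) := by
  refine subset_antisymm (fun x hx => ?_) (f.continuous.closure_preimage_subset _)
  obtain ⟨z, hz, hsp⟩ := exists_specializes_of_mem_closure hZ hx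
  obtain ⟨x', hx', he⟩ := hf hsp
  refine hx'.mem_closed isClosed_closure (subset_closure ?_)
  show f x' ∈ Z
  rw [show f x' = z from he]
  exact hz

theorem isLocallyClosed_iff (f : X ⟶ Y) [QuasiCompact f] [Surjective f] (hf : GeneralizingMap f.base)
    (Z : Set Y) : (IsLocallyClosed Z ∧ ProCons.IsProConstructible Z) ↔
      (IsLocallyClosed (f.base ⁻¹' Z) ∧ ProCons.IsProConstructible (f.base ⁻¹' Z)) := by
  refine ⟨fun h => ⟨h.1.preimage f.continuous, GrothLib.Constr.isProConstructible_preimage f h.2⟩,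
    fun h => ?_⟩
  have hp : ProCons.IsProConstructible Z := by
    have h' := GrothLib.Constr.isProConstructible_image f h.2
    rwa [Set.image_preimage_eq Z f.surjective] at h'
  refine ⟨?_, hp⟩
  rw [isLocallyClosed_iff_isOpen_coborder]
  have h1 : f.base ⁻¹' (closure Z \ Z) = closure (f.base ⁻¹' Z) \ f.base ⁻¹' Z := by
    rw [Set.preimage_sdiff, preimage_closure f hf hp]
  have h2 : IsClosed (f.base ⁻¹' (closure Z \ Z)) := by
    rw [h1]
    have := (isLocallyClosed_iff_isOpen_coborder.1 h.1)
    rwa [coborder, isOpen_compl_iff] at this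
  rw [coborder, isOpen_compl_iff]
  exact ((isQuotientMap f hf).isClosed_preimage).1 h2

end GrothLib.QuasiFlat
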