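/-
Descent of immersions.
-/
import Groth.Agent.Lib.QuasiFlat.Embed
import Groth.Agent.Lib.QuasiFlat.ProCons
import Groth.Agent.Lib.FpqcDesc.ClosedImmersion
import Groth.Agent.Lib.FpqcCov.Basic
import Mathlib.AlgebraicGeometry.Morphisms.Immersion
import Mathlib.AlgebraicGeometry.Morphisms.UniversallyOpen

universe u

open CategoryTheory CategoryTheory.Limits AlgebraicGeometry TopologicalSpace MorphismProperty

namespace GrothLib.QuasiFlat

/-- An embedding along an open surjective map. -/
theorem isEmbedding_of_isPullback_open {A X Y Z : Scheme.{u}} {fst : A ⟶ X} {snd : A ⟶ Y} {g : X ⟶ Z}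
    {f : Y ⟶ Z} (h : IsPullback fst snd g f) [Surjective g] (hg : IsOpenMap g.base)
    (hfst : Topology.IsEmbedding fst.base) : Topology.IsEmbedding f.base := by
  have hinj : Function.Injective f.base := by
    intro y₁ y₂ he
    obtain ⟨x, hx⟩ := g.surjective (f y₁)
    obtain ⟨a₁, ha₁, hb₁⟩ := Scheme.exists_preimage_of_isPullback h x y₁ hx
    obtain ⟨a₂, ha₂, hb₂⟩ := Scheme.exists_preimage_of_isPullback h x y₂ (hx.trans he)
    rw [← hb₁, ← hb₂, hfst.injective (ha₁.trans ha₂.symm)]
  refine ⟨⟨le_antisymm f.continuous.le_induced (fun U hU => ?_)⟩, hinj⟩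
  obtain ⟨W, hW, hWU⟩ := hfst.isInducing.isOpen_iff.1 (hU.preimage snd.continuous)
  refine ⟨g.base '' W, hg W hW, subset_antisymm ?_ ?_⟩
  · rintro y ⟨x, hxW, hx⟩
    obtain ⟨a, ha₁, ha₂⟩ := Scheme.exists_preimage_of_isPullback h x y hx
    have h3 : a ∈ fst.base ⁻¹' W := by rw [Set.mem_preimage, ha₁]; exact hxW
    rw [hWU, Set.mem_preimage, ha₂] at h3
    exact h3
  · intro y hy
    obtain ⟨x, hx⟩ := g.surjective (f y)
    obtain ⟨a, ha₁, ha₂⟩ := Scheme.exists_preimage_of_isPullback h x y hx
    have h3 : a ∈ snd.base ⁻¹' U := by rw [Set.mem_preimage, ha₂]; exact hy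
    rw [← hWU, Set.mem_preimage, ha₁] at h3
    exact ⟨x, h3, hx⟩

theorem range_eq_preimage {A X Y Z : Scheme.{u}} {fst : A ⟶ X} {snd : A ⟶ Y} {g : X ⟶ Z}
    {f : Y ⟶ Z} (h : IsPullback fst snd g f) : Set.range fst.base = g.base ⁻¹' Set.range f.base := by
  ext x
  constructor
  · rintro ⟨a, rfl⟩
    exact ⟨snd a, (congrArg (fun φ : A ⟶ Z => φ a) h.w).symm⟩
  · rintro ⟨y, hy⟩
    obtain ⟨a, ha, -⟩ := Scheme.exists_preimage_of_isPullback h x y hy.symm
    exact ⟨a, ha⟩

/-- An immersion is recognised after base change once the range is locally closed and closed immersions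
descend to the open where it is closed. -/
theorem isImmersion_of_isPullback {A X Y Z : Scheme.{u}} {fst : A ⟶ X} {snd : A ⟶ Y} {g : X ⟶ Z}
    {f : Y ⟶ Z} (h : IsPullback fst snd g f) [IsImmersion fst]
    (hlc : IsLocallyClosed (Set.range f.base))
    (hdesc : ∀ (U : Z.Opens) (f₀ : Y ⟶ U) (P : Scheme.{u}) (p : P ⟶ ↑(g ⁻¹ᵁ U)) (q : P ⟶ Y),
      f₀ ≫ U.ι = f → IsPullback p q (g ∣_ U) f₀ → IsClosedImmersion p → IsClosedImmersion f₀) :
    IsImmersion f := by
  let U : Z.Opens := ⟨coborder (Set.range f.base), hlc.isOpen_coborder⟩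
  have hle : Set.range f.base ⊆ Set.range U.ι.base := by
    rw [Scheme.Opens.range_ι]; exact subset_coborder
  let f₀ : Y ⟶ U := IsOpenImmersion.lift U.ι f hle
  have hf₀ : f₀ ≫ U.ι = f := IsOpenImmersion.lift_fac _ _ _
  have hle' : Set.range fst.base ⊆ Set.range (g ⁻¹ᵁ U).ι.base := by
    rw [Scheme.Opens.range_ι, range_eq_preimage h]
    exact Set.preimage_mono (show Set.range f.base ⊆ (U : Set Z) from subset_coborder)
  let p : A ⟶ ↑(g ⁻¹ᵁ U) := IsOpenImmersion.lift (g ⁻¹ᵁ U).ι fst hle'
  have hp : p ≫ (g ⁻¹ᵁ U).ι = fst := IsOpenImmersion.lift_fac _ _ _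
  have hsq : IsPullback p snd (g ∣_ U) f₀ := by
    refine IsPullback.of_right (h₁₂ := (g ⁻¹ᵁ U).ι) (h₂₂ := U.ι) (v₁₃ := g) ?_ ?_
      (isPullback_morphismRestrict g U).flip |>.flip |>.flip
    · rw [hp, hf₀]; exact h
    · rw [← cancel_mono U.ι, Category.assoc, Category.assoc, morphismRestrict_ι, hf₀,
        ← Category.assoc, hp]
      exact h.w
  haveI : IsImmersion p := by
    haveI : IsImmersion (p ≫ (g ⁻¹ᵁ U).ι) := hp.symm ▸ ‹IsImmersion fst›
    exact IsImmersion.of_comp p (g ⁻¹ᵁ U).ι
  have hclosed : IsClosed (Set.range p.base) := by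
    have h1 : IsClosed (Set.range f₀.base) := by
      have e : Set.range f₀.base = U.ι.base ⁻¹' closure (Set.range f.base) := by
        ext u
        constructor
        · rintro ⟨y, rfl⟩
          exact subset_closure ⟨y, congrArg (fun φ : Y ⟶ Z => φ y) hf₀.symm⟩
        · intro hu
          have : U.ι u ∈ coborder (Set.range f.base) ∩ closure (Set.range f.base) := ⟨u.2, hu⟩
          rw [coborder_inter_closure] at this
          obtain ⟨y, hy⟩ := this
          exact ⟨y, U.ι.isOpenEmbedding.injective ((congrArg (fun φ : Y ⟶ Z => φ y) hf₀).trans hy)⟩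
      rw [e]
      exact isClosed_closure.preimage U.ι.continuous
    rw [range_eq_preimage hsq]
    exact h1.preimage (g ∣_ U).continuous
  haveI := hdesc U f₀ A p snd hf₀ hsq (IsClosedImmersion.of_isPreimmersion p hclosed)
  rw [← hf₀]
  infer_instance

theorem descendsAlong_qc_immersion :
    MorphismProperty.DescendsAlong (@IsImmersion ⊓ @QuasiCompact : MorphismProperty Scheme.{u})
      (@Surjective ⊓ @Flat ⊓ @QuasiCompact : MorphismProperty Scheme.{u}) := by
  refine ⟨fun {A X Y Z fst snd g f} h hg hfst => ?_⟩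
  haveI : QuasiCompact f := Groth.Agent.S0079.result.of_isPullback h hg hfst.2
  haveI := hg.1.1
  haveI := hg.1.2
  haveI := hg.2
  haveI := hfst.1
  refine ⟨isImmersion_of_isPullback h ?_ (fun U f₀ P p q _ hsq hp => ?_), inferInstance⟩
  · refine ((isLocallyClosed_iff g (Flat.generalizingMap g) _).2 ⟨?_, ?_⟩).1
    · rw [← range_eq_preimage h]; exact fst.isLocallyClosed_range
    · refine GrothLib.Constr.isProConstructible_preimage g ?_
      rw [← Set.image_univ]
      exact GrothLib.Constr.isProConstructible_image f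
        (GrothLib.Constr.isProConstructible_of_isLocallyConstructible Topology.IsLocallyConstructible.univ)
  · exact MorphismProperty.of_isPullback_of_descendsAlong
      (Q := (@Surjective ⊓ @Flat ⊓ @QuasiCompact : MorphismProperty Scheme.{u}))
      (P := @IsClosedImmersion) hsq
      ⟨⟨IsZariskiLocalAtTarget.restrict hg.1.1 U, IsZariskiLocalAtTarget.restrict hg.1.2 U⟩,
        IsZariskiLocalAtTarget.restrict hg.2 U⟩ hp

theorem descendsAlong_immersion_fppf :
    MorphismProperty.DescendsAlong (@IsImmersion : MorphismProperty Scheme.{u})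
      (@Surjective ⊓ @Flat ⊓ @LocallyOfFinitePresentation : MorphismProperty Scheme.{u}) := by
  refine ⟨fun {A X Y Z fst snd g f} h hg hfst => ?_⟩
  haveI := hg.1.1
  haveI := hg.1.2
  haveI := hg.2
  haveI := hfst
  have hopen : IsOpenMap g.base := g.isOpenMap
  refine isImmersion_of_isPullback h ?_ (fun U f₀ P p q _ hsq hp => ?_)
  · rw [isLocallyClosed_iff_isOpen_coborder]
    have h1 : IsOpen (coborder (Set.range fst.base)) :=
      fst.isLocallyClosed_range.isOpen_coborder
    rw [range_eq_preimage h] at h1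
    have h2 : g.base ⁻¹' coborder (Set.range f.base) = coborder (g.base ⁻¹' Set.range f.base) := by
      simp only [coborder, Set.preimage_compl, Set.preimage_sdiff,
        hopen.preimage_closure_eq_closure_preimage g.continuous]
    rw [← h2] at h1
    have h3 := hopen _ h1
    rwa [Set.image_preimage_eq _ g.surjective] at h3
  · haveI : Surjective (g ∣_ U) := IsZariskiLocalAtTarget.restrict hg.1.1 U
    haveI : Flat (g ∣_ U) := IsZariskiLocalAtTarget.restrict hg.1.2 U
    let 𝒰 : Scheme.Cover.{u} (Scheme.precoverage (@Flat : MorphismProperty Scheme.{u})) U :=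
      (g ∣_ U).cover inferInstance
    haveI : QuasiCompactCover 𝒰.toPreZeroHypercover := QuasiCompactCover.of_isOpenMap fun i => by
      haveI : LocallyOfFinitePresentation (g ∣_ U) := IsZariskiLocalAtTarget.restrict hg.2 U
      exact (g ∣_ U).isOpenMap
    refine GrothLib.FpqcCov.of_fpqc (@IsClosedImmersion) inferInstance f₀ 𝒰.toPreZeroHypercover
      (fun i => (inferInstance : Flat (g ∣_ U))) (fun i => ?_)
    show IsClosedImmersion (pullback.snd f₀ (g ∣_ U))
    rw [← hsq.flip.isoPullback_inv_snd]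
    infer_instance

end GrothLib.QuasiFlat
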