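/-
Quasi-affine morphisms descend along fpqc morphisms.
-/
import Groth.Agent.Lib.EtSite.FpqcDescent
import Groth.Agent.Lib.IndQA.Basic
import Groth.Prelude.Def_Mor2
import Mathlib.AlgebraicGeometry.QuasiAffine

universe u

open CategoryTheory CategoryTheory.Limits AlgebraicGeometry MorphismProperty

namespace GrothLib.QuasiFlat

theorem qa_of_fpqc {X' X Y' Y : Scheme.{u}} {g' : X' ⟶ X} {f' : X' ⟶ Y'} {f : X ⟶ Y} {g : Y' ⟶ Y}
    (h : IsPullback g' f' f g) [IsAffine Y] [IsAffine Y'] [Flat g] [Surjective g]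
    [hX' : Scheme.IsQuasiAffine X'] : Scheme.IsQuasiAffine X := by
  haveI : QuasiCompact g := inferInstance
  haveI : QuasiCompact f' := inferInstance
  haveI : QuasiSeparated f' := inferInstance
  haveI : QuasiCompact f := of_isPullback_of_descendsAlong (P := @QuasiCompact)
    (Q := GrothLib.EtSite.fpqcCov) h.flip ⟨⟨inferInstance, inferInstance⟩, inferInstance⟩ inferInstance
  haveI : QuasiSeparated f := of_isPullback_of_descendsAlong (P := @QuasiSeparated)
    (Q := GrothLib.EtSite.fpqcCov) h.flip ⟨⟨inferInstance, inferInstance⟩, inferInstance⟩ inferInstance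
  haveI : CompactSpace X := QuasiCompact.compactSpace_of_compactSpace f
  haveI : QuasiSeparatedSpace X := quasiSeparatedSpace_of_quasiSeparated f
  have hiso := isIso_pushoutSection_of_isQuasiSeparated_of_flat_right h
    (US := ⊤) (UT := ⊤) (UX := ⊤) (UY := ⊤) le_top le_top (by simp) (isAffineOpen_top Y)
    (isAffineOpen_top Y') isCompact_univ (isQuasiSeparated_univ_iff.2 inferInstance)
  have hpo : IsPushout f.appTop g.appTop g'.appTop f'.appTop := by
    have := (isIso_pushoutSection_iff h (US := ⊤) (UT := ⊤) (UX := ⊤) (UY := ⊤) le_top le_top (by simp)).1 hiso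
    have e : ∀ {P Q : Scheme.{u}} (k : P ⟶ Q), k.appLE ⊤ ⊤ le_top = k.appTop := fun k => by
      simp [Scheme.Hom.appLE]
    simpa only [e] using this
  have hspec : IsPullback (Spec.map g'.appTop) (Spec.map f'.appTop) (Spec.map f.appTop) (Spec.map g.appTop) :=
    isPullback_SpecMap_of_isPushout _ _ _ _ hpo
  have hout : IsPullback g' (X'.toSpecΓ ≫ Spec.map f'.appTop) (X.toSpecΓ ≫ Spec.map f.appTop) (Spec.map g.appTop) :=
    IsPullback.of_iso h (Iso.refl _) (Iso.refl _) Y'.isoSpec Y.isoSpec
      (by simp) (by simp [Scheme.isoSpec, ← Scheme.toSpecΓ_naturality]) (by simp [Scheme.isoSpec, ← Scheme.toSpecΓ_naturality])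
      (Scheme.isoSpec_hom_naturality g).symm
  have hleft : IsPullback g' X'.toSpecΓ X.toSpecΓ (Spec.map g'.appTop) :=
    IsPullback.of_bot hout (Scheme.toSpecΓ_naturality g') hspec
  haveI : Surjective (Spec.map g'.appTop) := by
    haveI : Surjective (Spec.map g.appTop) := (MorphismProperty.arrow_mk_iso_iff @Surjective
      (arrowIsoSpecΓOfIsAffine g)).1 inferInstance
    exact MorphismProperty.of_isPullback hspec.flip inferInstance
  haveI : Flat (Spec.map g'.appTop) := by
    haveI : Flat (Spec.map g.appTop) := (MorphismProperty.arrow_mk_iso_iff @Flat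
      (arrowIsoSpecΓOfIsAffine g)).1 inferInstance
    exact MorphismProperty.of_isPullback hspec.flip inferInstance
  haveI : IsOpenImmersion X.toSpecΓ := of_isPullback_of_descendsAlong (P := @IsOpenImmersion)
    (Q := GrothLib.EtSite.fpqcCov) hleft.flip ⟨⟨inferInstance, inferInstance⟩, inferInstance⟩ inferInstance
  constructor

theorem descendsAlong_quasiAffine :
    MorphismProperty.DescendsAlong (fun _ _ f => Mor2.IsQuasiAffine f : MorphismProperty Scheme.{u})
      (@Surjective ⊓ @Flat ⊓ @QuasiCompact : MorphismProperty Scheme.{u}) := by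
  refine ⟨fun {A X Y Z fst snd g f} h hg hfst => ?_⟩
  haveI := hg.1.1
  haveI := hg.1.2
  haveI := hg.2
  haveI hqc : QuasiCompact f := of_isPullback_of_descendsAlong (P := @QuasiCompact)
    (Q := GrothLib.EtSite.fpqcCov) h hg hfst.1
  refine ⟨hqc, fun V hV => ?_⟩
  haveI : IsAffine (V : Scheme.{u}) := hV
  haveI : CompactSpace ((g ⁻¹ᵁ V : X.Opens) : Scheme.{u}) :=
    isCompact_iff_compactSpace.mp (g.isCompact_preimage hV.isCompact)
  obtain ⟨S, p, hsurj, hp, hS⟩ := ((g ⁻¹ᵁ V : X.Opens) : Scheme.{u}).exists_hom_isAffine_of_isZariskiLocalAtSource @IsLocalIso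
  haveI := hsurj
  haveI := hS
  haveI : Flat p := (IsLocalIso.le_of_isZariskiLocalAtSource @Flat) _ _ p hp
  haveI : Surjective (g ∣_ V) := IsZariskiLocalAtTarget.restrict hg.1.1 V
  haveI : Flat (g ∣_ V) := IsZariskiLocalAtTarget.restrict hg.1.2 V
  haveI : Scheme.IsQuasiAffine (pullback (f ∣_ V) (p ≫ g ∣_ V)) := by
    let m : S ⟶ X := p ≫ (g ⁻¹ᵁ V).ι
    have e1 : IsPullback (pullback.fst (f ∣_ V) (p ≫ g ∣_ V) ≫ (f ⁻¹ᵁ V).ι) (pullback.snd _ _) f
        ((p ≫ g ∣_ V) ≫ V.ι) :=
      (IsPullback.of_hasPullback _ _).paste_horiz (isPullback_morphismRestrict f V).flip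
    rw [Category.assoc, morphismRestrict_ι, ← Category.assoc] at e1
    have e2 : IsPullback (pullback.fst fst m ≫ snd) (pullback.snd fst m) f (m ≫ g) :=
      (IsPullback.of_hasPullback fst m).paste_horiz h.flip
    have hqa : Mor2.IsQuasiAffine (pullback.snd fst m) := by
      haveI : QuasiCompact fst := hfst.1
      refine ⟨inferInstance, fun W hW => ?_⟩
      haveI := hfst.1
      haveI : IsAffine (W : Scheme.{u}) := hW
      have hSA : Scheme.IsQuasiAffine (pullback fst m) := by
        haveI : CompactSpace (pullback fst m : Scheme.{u}) := QuasiCompact.compactSpace_of_compactSpace (pullback.snd fst m)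
        refine GrothLib.IndQA.qa_of_forall_preimage (pullback.snd fst m) fun a => ?_
        obtain ⟨_, ⟨U, hU, rfl⟩, hxU, -⟩ :=
          X.isBasis_affineOpens.exists_subset_of_mem_open (Set.mem_univ (m (pullback.snd fst m a))) isOpen_univ
        obtain ⟨_, ⟨_, ⟨r, rfl⟩, rfl⟩, hxr, hrU⟩ := (isBasis_basicOpen S).exists_subset_of_mem_open
          (show pullback.snd fst m a ∈ (m ⁻¹ᵁ U : S.Opens) from hxU) (m ⁻¹ᵁ U).2
        refine ⟨r, hxr, ?_⟩
        haveI : CompactSpace ((pullback.snd fst m ⁻¹ᵁ S.basicOpen r : (pullback fst m).Opens) : Scheme.{u}) :=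
          isCompact_iff_compactSpace.mp ((pullback.snd fst m).isCompact_preimage
            ((isAffineOpen_top S).basicOpen r).isCompact)
        haveI := hfst.2 U hU
        have hle : pullback.snd fst m ⁻¹ᵁ S.basicOpen r ≤ pullback.fst fst m ⁻¹ᵁ (fst ⁻¹ᵁ U) := by
          intro b hb
          show fst (pullback.fst fst m b) ∈ U
          rw [← Scheme.Hom.comp_apply, pullback.condition, Scheme.Hom.comp_apply]
          exact hrU hb
        have hsq := Scheme.Hom.isPullback_resLE (IsPullback.of_hasPullback fst m).flip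
          (US := U) (UT := fst ⁻¹ᵁ U) (UX := S.basicOpen r)
          (UY := pullback.snd fst m ⁻¹ᵁ S.basicOpen r) le_rfl hrU (inf_eq_left.2 hle).symm
        haveI : IsAffine ((S.basicOpen r : S.Opens) : Scheme.{u}) := (isAffineOpen_top S).basicOpen r
        haveI : IsAffine (U : Scheme.{u}) := hU
        haveI : IsAffineHom (m.resLE U (S.basicOpen r) hrU) := inferInstance
        haveI : IsAffineHom ((pullback.fst fst m).resLE (fst ⁻¹ᵁ U)
            (pullback.snd fst m ⁻¹ᵁ S.basicOpen r) hle) :=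
          MorphismProperty.of_isPullback hsq inferInstance
        exact Scheme.IsQuasiAffine.of_isAffineHom ((pullback.fst fst m).resLE (fst ⁻¹ᵁ U)
            (pullback.snd fst m ⁻¹ᵁ S.basicOpen r) hle)
      exact GrothLib.IndQA.qa_mono ((GrothLib.IndQA.qa_top_iff _).2 hSA)
        ((pullback.snd fst m).isCompact_preimage hW.isCompact) le_top
    haveI := hqa.2 ⊤ (isAffineOpen_top S)
    haveI : Scheme.IsQuasiAffine (pullback fst m) := (GrothLib.IndQA.qa_top_iff _).1 this
    exact GrothLib.IndQA.qa_of_iso (e1.isoIsPullback _ _ e2)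
  exact qa_of_fpqc (IsPullback.of_hasPullback (f ∣_ V) (p ≫ g ∣_ V))

end GrothLib.QuasiFlat
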