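/-
Quasi-flatness after base change: generizations lift along every base change.
-/
import Groth.Agent.Lib.QuasiFlat.Basic
import Mathlib.RingTheory.IsTensorProduct
import Mathlib.RingTheory.LocalRing.Module
import Mathlib.AlgebraicGeometry.Morphisms.UniversallyOpen

universe u

open CategoryTheory CategoryTheory.Limits AlgebraicGeometry TopologicalSpace
open scoped TensorProduct

namespace GrothLib.QuasiFlat

/-- A tensor product of a flat module with a relatively flat one is relatively flat. -/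
theorem flat_tensor {C T : Type u} [CommRing C] [CommRing T] [Algebra C T] (Z : Type u)
    [AddCommGroup Z] [Module T Z] [Module C Z] [IsScalarTower C T Z] [Module.Flat T Z]
    (N : Type u) [AddCommGroup N] [Module T N] [Module C N] [IsScalarTower C T N] [Module.Flat C N] :
    Module.Flat C (Z ⊗[T] N) := by
  rw [Module.Flat.iff_lTensor_preserves_injective_linearMap]
  intro P Q _ _ _ _ φ hφ
  have h1 : Function.Injective (φ.lTensor N) := Module.Flat.lTensor_preserves_injective_linearMap φ hφ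
  have h2 : Function.Injective
      ((TensorProduct.AlgebraTensorModule.map (LinearMap.id (R := T) (M := N)) φ).lTensor Z) :=
    Module.Flat.lTensor_preserves_injective_linearMap _ h1
  have h3 : ∀ w, φ.lTensor (Z ⊗[T] N) w =
      (TensorProduct.AlgebraTensorModule.assoc C T T Z N Q).symm
        ((TensorProduct.AlgebraTensorModule.map (LinearMap.id (R := T) (M := N)) φ).lTensor Z
          (TensorProduct.AlgebraTensorModule.assoc C T T Z N P w)) := by
    intro w
    induction w using TensorProduct.induction_on with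
    | zero => simp
    | add a b ha hb => simp only [map_add, ha, hb]
    | tmul v p =>
      induction v using TensorProduct.induction_on with
      | zero => simp
      | add a b ha hb => simp only [TensorProduct.add_tmul, map_add, ha, hb]
      | tmul z n => simp
  intro a b hab
  rw [h3, h3] at hab
  exact (TensorProduct.AlgebraTensorModule.assoc C T T Z N P).injective
    (h2 ((TensorProduct.AlgebraTensorModule.assoc C T T Z N Q).symm.injective hab))

/-- The base change of a nonzero finite module along a local homomorphism is nonzero. -/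
theorem nontrivial_tensor_of_isLocalHom {B Z : Type u} [CommRing B] [CommRing Z] [IsLocalRing B]
    [IsLocalRing Z] [Algebra B Z] [IsLocalHom (algebraMap B Z)] (M : Type u) [AddCommGroup M]
    [Module B M] [Module.Finite B M] [Nontrivial M] : Nontrivial (Z ⊗[B] M) := by
  letI : Algebra (IsLocalRing.ResidueField B) (IsLocalRing.ResidueField Z) :=
    (IsLocalRing.ResidueField.map (algebraMap B Z)).toAlgebra
  haveI : IsScalarTower B (IsLocalRing.ResidueField B) (IsLocalRing.ResidueField Z) :=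
    IsScalarTower.of_algebraMap_eq fun _ => rfl
  haveI : Nontrivial (IsLocalRing.ResidueField B ⊗[B] M) := by
    rw [← not_subsingleton_iff_nontrivial, IsLocalRing.subsingleton_tensorProduct]
    exact not_subsingleton M
  haveI : Nontrivial (IsLocalRing.ResidueField Z ⊗[B] M) :=
    (TensorProduct.AlgebraTensorModule.cancelBaseChange B (IsLocalRing.ResidueField B)
      (IsLocalRing.ResidueField B) (IsLocalRing.ResidueField Z) M).symm.toEquiv.nontrivial
  have hs : Function.Surjective
      ((IsScalarTower.toAlgHom B Z (IsLocalRing.ResidueField Z)).toLinearMap.rTensor M) :=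
    LinearMap.rTensor_surjective M IsLocalRing.residue_surjective
  exact hs.nontrivial

attribute [local instance] Algebra.TensorProduct.rightAlgebra

set_option synthInstance.maxHeartbeats 100000 in
/-- Generizations in the base change lift: algebraic form. -/
theorem exists_prime_le {A B C : Type u} [CommRing A] [CommRing B] [CommRing C] [IsLocalRing B]
    [Algebra A B] [Algebra A C] (M : Type u) [AddCommGroup M] [Module B M] [Module A M]
    [IsScalarTower A B M] [Module.Finite B M] [Nontrivial M] [Module.Flat A M]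
    (Q : Ideal (B ⊗[A] C)) [Q.IsPrime]
    (hQ : Q.comap (Algebra.TensorProduct.includeLeftRingHom (R := A) (A := B) (B := C)) =
      IsLocalRing.maximalIdeal B)
    (P : Ideal C) [P.IsPrime] (hP : P ≤ Q.comap (algebraMap C (B ⊗[A] C))) :
    ∃ Q' : Ideal (B ⊗[A] C), Q'.IsPrime ∧ Q' ≤ Q ∧ Q'.comap (algebraMap C (B ⊗[A] C)) = P := by
  let Z := Localization.AtPrime Q
  haveI : IsLocalHom (algebraMap B Z) := by
    refine ((IsLocalRing.local_hom_TFAE _).out 0 4).2 ?_
    rw [IsScalarTower.algebraMap_eq B (B ⊗[A] C) Z, ← Ideal.comap_comap]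
    have e : (IsLocalRing.maximalIdeal Z).comap (algebraMap (B ⊗[A] C) Z) = Q :=
      Localization.AtPrime.under_maximalIdeal
    rw [e]
    exact hQ
  haveI := nontrivial_tensor_of_isLocalHom (B := B) (Z := Z) M
  haveI : Algebra.IsPushout A C B (B ⊗[A] C) := inferInstance
  haveI : Module.Flat C ((B ⊗[A] C) ⊗[B] M) :=
    Module.Flat.of_linearEquiv (Algebra.IsPushout.cancelBaseChange A C B (B ⊗[A] C) M)
  haveI : Module.Flat C (Z ⊗[B ⊗[A] C] ((B ⊗[A] C) ⊗[B] M)) := flat_tensor Z _
  haveI hfl : Module.Flat C (Z ⊗[B] M) :=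
    Module.Flat.of_linearEquiv
      ((TensorProduct.AlgebraTensorModule.cancelBaseChange B (B ⊗[A] C) Z Z M).symm.restrictScalars C)
  -- localise the base at the contraction of the closed point
  let p := Q.comap (algebraMap C (B ⊗[A] C))
  let Cp := Localization.AtPrime p
  letI : Algebra Cp Z := (Localization.localRingHom p Q (algebraMap C (B ⊗[A] C)) rfl).toAlgebra
  haveI : IsScalarTower C Cp Z := IsScalarTower.of_algebraMap_eq fun c => by
    rw [RingHom.algebraMap_toAlgebra, Localization.localRingHom_to_map]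
    exact IsScalarTower.algebraMap_apply C (B ⊗[A] C) Z c
  haveI : IsLocalHom (algebraMap Cp Z) := inferInstanceAs
    (IsLocalHom (Localization.localRingHom p Q (algebraMap C (B ⊗[A] C)) rfl))
  haveI : Module.Flat Cp (Z ⊗[B] M) :=
    (Module.flat_iff_of_isLocalization Cp p.primeCompl (Z ⊗[B] M)).2 hfl
  obtain ⟨P₀, hP₀⟩ : (⟨P, ‹_›⟩ : PrimeSpectrum C) ∈
      Set.range (PrimeSpectrum.comap (algebraMap C Cp)) := by
    rw [PrimeSpectrum.localization_comap_range (S := Cp) (M := p.primeCompl)]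
    exact Set.disjoint_left.2 fun c hc hcP => hc (hP hcP)
  obtain ⟨q, hq⟩ := comap_surjective_of_flat_module (A := Cp) (B := Z) (Z ⊗[B] M) P₀
  refine ⟨q.asIdeal.comap (algebraMap _ Z), inferInstance, fun t ht => ?_, ?_⟩
  · by_contra h
    exact q.2.ne_top (Ideal.eq_top_of_isUnit_mem _ ht
      (IsLocalization.map_units Z (⟨t, h⟩ : Q.primeCompl)))
  · rw [Ideal.comap_comap, ← IsScalarTower.algebraMap_eq C (B ⊗[A] C) Z,
      IsScalarTower.algebraMap_eq C Cp Z, ← Ideal.comap_comap]
    rw [← hq] at hP₀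
    exact congrArg PrimeSpectrum.asIdeal hP₀

theorem exists_affine_triple {X Y Y' : Scheme.{u}} (f : X ⟶ Y) (g : Y' ⟶ Y) {x : X} {y' : Y'}
    (h : f x = g y') : ∃ (U : X.Opens) (V : Y.Opens) (W : Y'.Opens), IsAffineOpen U ∧ IsAffineOpen V ∧
      IsAffineOpen W ∧ x ∈ U ∧ y' ∈ W ∧ U ≤ f ⁻¹ᵁ V ∧ W ≤ g ⁻¹ᵁ V := by
  obtain ⟨_, ⟨V, hV, rfl⟩, hxV, -⟩ :=
    Y.isBasis_affineOpens.exists_subset_of_mem_open (Set.mem_univ (f x)) isOpen_univ
  have hyV : y' ∈ g ⁻¹ᵁ V := by show g y' ∈ V; rw [← h]; exact hxV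
  obtain ⟨_, ⟨U, hU, rfl⟩, hxU, hUV⟩ :=
    X.isBasis_affineOpens.exists_subset_of_mem_open (show x ∈ f ⁻¹ᵁ V from hxV) (f ⁻¹ᵁ V).2
  obtain ⟨_, ⟨W, hW, rfl⟩, hyW, hWV⟩ :=
    Y'.isBasis_affineOpens.exists_subset_of_mem_open hyV (g ⁻¹ᵁ V).2
  exact ⟨U, V, W, hU, hV, hW, hxU, hyW, hUV, hWV⟩

/-- Quasi-flat morphisms stay generalizing after base change. -/
theorem generalizingMap_snd {X Y Y' : Scheme.{u}} (f : X ⟶ Y) (g : Y' ⟶ Y)
    (hf : FDesc.IsQuasiFlat f) : GeneralizingMap (pullback.snd f g).base := by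
  obtain ⟨M, hM, hflat, hsupp⟩ := hf
  let P' := pullback f g
  let p₁ : P' ⟶ X := pullback.fst f g
  let p₂ : P' ⟶ Y' := pullback.snd f g
  show GeneralizingMap p₂.base
  intro x' z hz
  have hcond : f (p₁ x') = g (p₂ x') :=
    congrArg (fun φ : P' ⟶ Y => φ x') pullback.condition
  obtain ⟨U, V, W, hU, hV, hW, hxU, hyW, hUV, hWV⟩ := exists_affine_triple f g hcond
  -- the rings
  let xx := p₁ x'
  letI : Algebra Γ(Y, V) Γ(Y', W) := (g.appLE V W hWV).hom.toAlgebra
  letI : Algebra Γ(Y, V) (X.presheaf.stalk xx) :=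
    (f.appLE V U hUV ≫ X.presheaf.germ U xx hxU).hom.toAlgebra
  letI : Algebra Γ(Y, V) (Y.presheaf.stalk (f xx)) := Y.presheaf.algebra_section_stalk ⟨f xx, hUV hxU⟩
  letI : Algebra (Y.presheaf.stalk (f xx)) (X.presheaf.stalk xx) := (f.stalkMap xx).hom.toAlgebra
  haveI : IsScalarTower Γ(Y, V) (Y.presheaf.stalk (f xx)) (X.presheaf.stalk xx) := by
    refine IsScalarTower.of_algebraMap_eq' (congrArg CommRingCat.Hom.hom (?_ :
      f.appLE V U hUV ≫ X.presheaf.germ U xx hxU =
        Y.presheaf.germ V (f xx) (hUV hxU) ≫ f.stalkMap xx))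
    rw [Scheme.Hom.germ_stalkMap, Scheme.Hom.appLE, Category.assoc, TopCat.Presheaf.germ_res]
  letI := FlatMod.moduleStalkOver f M xx
  haveI : IsScalarTower (Y.presheaf.stalk (f xx)) (X.presheaf.stalk xx) (M.presheaf.stalk xx) :=
    IsScalarTower.of_algebraMap_smul fun _ _ => rfl
  letI : Module Γ(Y, V) (M.presheaf.stalk xx) :=
    Module.compHom _ (algebraMap Γ(Y, V) (X.presheaf.stalk xx))
  haveI : IsScalarTower Γ(Y, V) (X.presheaf.stalk xx) (M.presheaf.stalk xx) :=
    IsScalarTower.of_algebraMap_smul fun _ _ => rfl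
  haveI : IsScalarTower Γ(Y, V) (Y.presheaf.stalk (f xx)) (M.presheaf.stalk xx) :=
    IsScalarTower.of_algebraMap_smul fun c w => by
      show algebraMap (Y.presheaf.stalk (f xx)) (X.presheaf.stalk xx) (algebraMap _ _ c) • w =
        algebraMap Γ(Y, V) (X.presheaf.stalk xx) c • w
      rw [← IsScalarTower.algebraMap_apply]
  haveI : IsLocalization.AtPrime (Y.presheaf.stalk (f xx)) (hV.primeIdealOf ⟨f xx, hUV hxU⟩).asIdeal :=
    hV.isLocalization_stalk ⟨f xx, hUV hxU⟩
  haveI : Module.Flat (Y.presheaf.stalk (f xx)) (M.presheaf.stalk xx) := hflat xx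
  haveI : Module.Flat Γ(Y, V) (M.presheaf.stalk xx) :=
    (Module.flat_iff_of_isLocalization (Y.presheaf.stalk (f xx))
      (hV.primeIdealOf ⟨f xx, hUV hxU⟩).asIdeal.primeCompl (M.presheaf.stalk xx)).1 inferInstance
  haveI := hsupp xx
  haveI := finite_stalk M hM xx
  -- the comparison with the local ring of the fibre product
  let β : X.presheaf.stalk xx →+* P'.presheaf.stalk x' := (p₁.stalkMap x').hom
  let γ : Γ(Y', W) →+* P'.presheaf.stalk x' :=
    (Y'.presheaf.germ W (p₂ x') hyW ≫ p₂.stalkMap x').hom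
  let O' : P'.Opens := p₁ ⁻¹ᵁ U ⊓ p₂ ⁻¹ᵁ W
  have hO' : x' ∈ O' := ⟨hxU, hyW⟩
  have hsq : (f.appLE V U hUV ≫ X.presheaf.germ U xx hxU) ≫ p₁.stalkMap x' =
      g.appLE V W hWV ≫ Y'.presheaf.germ W (p₂ x') hyW ≫ p₂.stalkMap x' := by
    have e1 : X.presheaf.germ U xx hxU ≫ p₁.stalkMap x' =
        p₁.appLE U O' inf_le_left ≫ P'.presheaf.germ O' x' hO' := by
      rw [Scheme.Hom.germ_stalkMap, Scheme.Hom.appLE, Category.assoc, TopCat.Presheaf.germ_res]
    have e2 : Y'.presheaf.germ W (p₂ x') hyW ≫ p₂.stalkMap x' =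
        p₂.appLE W O' inf_le_right ≫ P'.presheaf.germ O' x' hO' := by
      rw [Scheme.Hom.germ_stalkMap, Scheme.Hom.appLE, Category.assoc, TopCat.Presheaf.germ_res]
    rw [Category.assoc, e1, e2, ← Category.assoc, ← Category.assoc, Scheme.Hom.appLE_comp_appLE,
      Scheme.Hom.appLE_comp_appLE]
    congr 2
    exact pullback.condition
  let T := X.presheaf.stalk xx ⊗[Γ(Y, V)] Γ(Y', W)
  let inl : X.presheaf.stalk xx →+* T := Algebra.TensorProduct.includeLeftRingHom
  let inr : Γ(Y', W) →+* T := (Algebra.TensorProduct.includeRight :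
    Γ(Y', W) →ₐ[Γ(Y, V)] T).toRingHom
  letI : Algebra Γ(Y, V) (P'.presheaf.stalk x') := (β.comp (algebraMap _ _)).toAlgebra
  let τ : T →ₐ[Γ(Y, V)] P'.presheaf.stalk x' := Algebra.TensorProduct.lift
    { β with commutes' := fun _ => rfl }
    { γ with commutes' := fun c => (congrArg (fun φ => φ.hom c) hsq).symm }
    (fun _ _ => Commute.all _ _)
  have hτl : τ.toRingHom.comp inl = β := RingHom.ext fun b => by
    show τ (b ⊗ₜ 1) = β b
    rw [Algebra.TensorProduct.lift_tmul]
    exact (congrArg _ (map_one γ)).trans (mul_one _)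
  have hτr : τ.toRingHom.comp inr = γ := RingHom.ext fun c => by
    show τ (1 ⊗ₜ c) = γ c
    rw [Algebra.TensorProduct.lift_tmul]
    exact (congrArg (· * _) (map_one β)).trans (one_mul _)
  haveI hβ : IsLocalHom β := inferInstanceAs (IsLocalHom (p₁.stalkMap x').hom)
  let Q : Ideal T := (IsLocalRing.maximalIdeal (P'.presheaf.stalk x')).comap τ.toRingHom
  have hQ : Q.comap inl = IsLocalRing.maximalIdeal (X.presheaf.stalk xx) := by
    show (Ideal.comap τ.toRingHom _).comap inl = _
    rw [Ideal.comap_comap, hτl]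
    exact ((IsLocalRing.local_hom_TFAE β).out 0 4).1 hβ
  have hzW : z ∈ W := Specializes.mem_open hz W.2 hyW
  have hPle : (hW.primeIdealOf ⟨z, hzW⟩).asIdeal ≤ Q.comap inr := by
    show _ ≤ (Ideal.comap τ.toRingHom _).comap inr
    rw [Ideal.comap_comap, hτr]
    intro c hc
    by_contra hne
    have hu : IsUnit (γ c) := IsLocalRing.notMem_maximalIdeal.1 hne
    have hu' : IsUnit (Y'.presheaf.germ W (p₂ x') hyW c) := isUnit_of_map_unit (p₂.stalkMap x').hom _ hu
    have hmem : (p₂ x') ∈ Y'.basicOpen c := (Y'.mem_basicOpen c _ hyW).2 hu'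
    have hzb : z ∈ Y'.basicOpen c := Specializes.mem_open hz (Y'.basicOpen c).2 hmem
    have : hW.fromSpec (hW.primeIdealOf ⟨z, hzW⟩) ∈ Y'.basicOpen c := by
      rw [hW.fromSpec_primeIdealOf]; exact hzb
    have h3 : hW.primeIdealOf ⟨z, hzW⟩ ∈ hW.fromSpec ⁻¹ᵁ Y'.basicOpen c := this
    rw [hW.fromSpec_preimage_basicOpen] at h3
    exact h3 hc
  obtain ⟨Q', hQ', hle, hQP⟩ := exists_prime_le (A := Γ(Y, V)) (B := X.presheaf.stalk xx)
    (C := Γ(Y', W)) (M.presheaf.stalk xx) Q hQ (hW.primeIdealOf ⟨z, hzW⟩).asIdeal hPle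
  -- the comparison morphism
  let φ : Spec (CommRingCat.of T) ⟶ P' := pullback.lift
    (Spec.map (CommRingCat.ofHom inl) ≫ X.fromSpecStalk xx)
    (Spec.map (CommRingCat.ofHom inr) ≫ hW.fromSpec) (by
      rw [← hU.fromSpecStalk_eq_fromSpecStalk hxU, IsAffineOpen.fromSpecStalk, Category.assoc,
        Category.assoc, Category.assoc, ← hV.SpecMap_appLE_fromSpec f hU hUV,
        ← hV.SpecMap_appLE_fromSpec g hW hWV]
      simp only [← Category.assoc, ← Spec.map_comp]
      congr 2
      apply CommRingCat.hom_ext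
      refine RingHom.ext fun c => ?_
      have h1 := (Algebra.TensorProduct.includeLeft (R := Γ(Y, V)) (S := Γ(Y, V))
        (A := X.presheaf.stalk xx) (B := Γ(Y', W))).commutes c
      have h2 := (Algebra.TensorProduct.includeRight (R := Γ(Y, V))
        (A := X.presheaf.stalk xx) (B := Γ(Y', W))).commutes c
      exact h1.trans h2.symm)
  have hfac : Spec.map (CommRingCat.ofHom τ.toRingHom) ≫ φ = P'.fromSpecStalk x' := by
    apply pullback.hom_ext
    · rw [Category.assoc, pullback.lift_fst, ← Category.assoc, ← Spec.map_comp,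
        show CommRingCat.ofHom inl ≫ CommRingCat.ofHom τ.toRingHom = p₁.stalkMap x' from
          CommRingCat.hom_ext hτl]
      exact Scheme.SpecMap_stalkMap_fromSpecStalk p₁
    · rw [Category.assoc, pullback.lift_snd, ← Category.assoc, ← Spec.map_comp,
        show CommRingCat.ofHom inr ≫ CommRingCat.ofHom τ.toRingHom =
          Y'.presheaf.germ W (p₂ x') hyW ≫ p₂.stalkMap x' from CommRingCat.hom_ext hτr,
        Spec.map_comp, Category.assoc]
      rw [show Spec.map (Y'.presheaf.germ W (p₂ x') hyW) ≫ hW.fromSpec = Y'.fromSpecStalk (p₂ x') from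
        hW.fromSpecStalk_eq_fromSpecStalk hyW]
      exact Scheme.SpecMap_stalkMap_fromSpecStalk p₂
  refine ⟨φ ⟨Q', hQ'⟩, ?_, ?_⟩
  · have hx : φ ⟨Q, inferInstance⟩ = x' := by
      have h := congrArg (fun ψ : Spec (P'.presheaf.stalk x') ⟶ P' =>
        ψ (IsLocalRing.closedPoint (P'.presheaf.stalk x'))) hfac
      rw [Scheme.fromSpecStalk_closedPoint] at h
      exact h
    have hsp : (⟨Q', hQ'⟩ : PrimeSpectrum T) ⤳ ⟨Q, inferInstance⟩ :=
      (PrimeSpectrum.le_iff_specializes _ _).1 hle
    have h2 := hsp.map φ.continuous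
    rwa [hx] at h2
  · have h := congrArg (fun ψ : Spec (CommRingCat.of T) ⟶ Y' => ψ (⟨Q', hQ'⟩ : PrimeSpectrum T))
      (pullback.lift_snd (f := f) (g := g) (Spec.map (CommRingCat.ofHom inl) ≫ X.fromSpecStalk xx)
        (Spec.map (CommRingCat.ofHom inr) ≫ hW.fromSpec) _ : φ ≫ p₂ = _)
    refine h.trans ?_
    have he : (Spec.map (CommRingCat.ofHom inr)) (⟨Q', hQ'⟩ : PrimeSpectrum T) =
        hW.primeIdealOf ⟨z, hzW⟩ := PrimeSpectrum.ext hQP
    exact (congrArg hW.fromSpec he).trans (hW.fromSpec_primeIdealOf _)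

/-- Quasi-flat morphisms locally of finite presentation are universally open. -/
theorem universallyOpen {X Y : Scheme.{u}} (f : X ⟶ Y) (hf : FDesc.IsQuasiFlat f)
    [LocallyOfFinitePresentation f] : UniversallyOpen f := by
  refine ⟨fun X' Y' i₁ i₂ f' h => ?_⟩
  have hiso := h.flip.isoPullback_hom_snd
  rw [← hiso]
  show IsOpenMap (h.flip.isoPullback.hom ≫ pullback.snd f i₂)
  rw [Scheme.Hom.comp_base, TopCat.coe_comp]
  exact (isOpenMap_of_generalizingMap _ (generalizingMap_snd f i₂ hf)).comp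
    h.flip.isoPullback.hom.isOpenEmbedding.isOpenMap

end GrothLib.QuasiFlat
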